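import Cfsg.Agent.H332.Ab.TwE6
import Cfsg.Agent.H928.AbNum
import Cfsg.Agent.H316.Ab.X3Inst
import Cfsg.Agent.H197.Ab.X3
import Cfsg.Agent.H157.Ab.X1

/-!
# S2501: the row `²E₆(q)` (helper332)
-/

set_option autoImplicit false

namespace Cfsg.Agent.H332.Ab.RowTwE6

open Cfsg Cfsg.Agent.H157.Ab

theorem twE6 : ∀ (K : Type) [Field K] [Fintype K] (q : ℕ), IsPrimePow q → Fintype.card K = q ^ 2 →
    Ab3 (Lie.twistedE6 K q) :=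
  H928.AbNum.twE6_of x1 H332.Ab.TwE6.pbTwE6 (H316.Ab.sb_twE6 H197.Ab.X3.x3)

theorem ab3_2E6 {G : Type*} [Group G] [Finite G] [IsSimpleGroup G] (h : Cfsg.Lie.Iso2E6 G) : Ab3 G := by
  obtain ⟨K, i1, i2, q, hq, hK, ⟨e⟩⟩ := h
  exact (twE6 K q hq hK).congr e.symm

end Cfsg.Agent.H332.Ab.RowTwE6
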