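import Cfsg.Agent.H332.Ab.Unip

/-!
# Matching certificates for E6, E7, E8, F4 (helper332)
-/

set_option autoImplicit false

namespace Cfsg.Agent.H332.Ab.Filt

open Cfsg.Lie

/-- matching of the positive roots of `E6` -/
def LE6 : List ℕ := [17, 32, 31, 26, 16, 6, 29, 30, 27, 25, 34, 33, 9, 7, 20, 22, 28, 24, 23, 21, 19, 5, 1, 18, 12, 2, 3, 8, 0,
  15, 14, 13, 4, 11, 10, 36]

/-- its inverse -/
def LE6' : List ℕ := [28, 22, 25, 26, 32, 21, 5, 13, 27, 12, 34, 33, 24, 31, 30, 29, 4, 0, 23, 20, 14, 19, 15, 18, 17, 9, 3, 8, 16,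
  6, 7, 2, 1, 11, 10, 36]

theorem certE6 : certOK chevE6 36 LE6 LE6' = true := by decide +kernel

theorem lenE6 : ((List.range 36).filter fun i => Nat.blt (LE6.getD i 36) 36).length = 35 := by decide +kernel

/-- matching of the positive roots of `E7` -/
def LE7 : List ℕ := [27, 28, 56, 26, 53, 20, 59, 15, 23, 21, 60, 45, 58, 44, 16, 55, 51, 54, 48, 49, 43, 35, 40, 41, 34, 50, 3,
  42, 32, 31, 61, 17, 22, 18, 57, 25, 9, 13, 6, 52, 29, 12, 4, 14, 47, 46, 2, 5, 7, 19, 8, 24, 39, 38, 37, 36,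
  0, 1, 33, 11, 10, 30, 63]

/-- its inverse -/
def LE7' : List ℕ := [56, 57, 46, 26, 42, 47, 38, 48, 50, 36, 60, 59, 41, 37, 43, 7, 14, 31, 33, 49, 5, 9, 32, 8, 51, 35, 3, 0, 1,
  40, 61, 29, 28, 58, 24, 21, 55, 54, 53, 52, 22, 23, 27, 20, 13, 11, 45, 44, 18, 19, 25, 16, 39, 4, 17, 15, 2,
  34, 12, 6, 10, 30, 63]

theorem certE7 : certOK chevE7 63 LE7 LE7' = true := by decide +kernel

theorem lenE7 : ((List.range 63).filter fun i => Nat.blt (LE7.getD i 63) 63).length = 62 := by decide +kernel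

/-- matching of the positive roots of `E8` -/
def LE8 : List ℕ := [118, 117, 7, 116, 38, 75, 115, 22, 57, 85, 110, 114, 53, 86, 51, 113, 21, 42, 54, 88, 58, 104, 20, 112, 64,
  44, 71, 60, 48, 111, 107, 106, 61, 82, 72, 80, 108, 67, 109, 49, 47, 45, 18, 24, 8, 26, 41, 105, 30, 6, 12,
  19, 10, 11, 40, 92, 103, 37, 101, 102, 34, 100, 1, 99, 39, 98, 91, 23, 79, 95, 97, 96, 94, 84, 63, 93, 29, 70,
  90, 36, 89, 52, 87, 32, 4, 78, 83, 81, 59, 74, 35, 66, 77, 76, 73, 69, 68, 15, 65, 5, 56, 62, 50, 55, 43, 46,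
  31, 13, 33, 17, 27, 28, 25, 16, 14, 9, 3, 2, 0, 120]

/-- its inverse -/
def LE8' : List ℕ := [118, 62, 117, 116, 84, 99, 49, 2, 44, 115, 52, 53, 50, 107, 114, 97, 113, 109, 42, 51, 22, 16, 7, 67, 43,
  112, 45, 110, 111, 76, 48, 106, 83, 108, 60, 90, 79, 57, 4, 64, 54, 46, 17, 104, 25, 41, 105, 40, 28, 39, 102,
  14, 81, 12, 18, 103, 100, 8, 20, 88, 27, 32, 101, 74, 24, 98, 91, 37, 96, 95, 77, 26, 34, 94, 89, 5, 93, 92,
  85, 68, 35, 87, 33, 86, 73, 9, 13, 82, 19, 80, 78, 66, 55, 75, 72, 69, 71, 70, 65, 63, 61, 58, 59, 56, 21, 47,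
  31, 30, 36, 38, 10, 29, 23, 15, 11, 6, 3, 1, 0, 120]

theorem certE8 : certOK chevE8 120 LE8 LE8' = true := by decide +kernel

theorem lenE8 : ((List.range 120).filter fun i => Nat.blt (LE8.getD i 120) 120).length = 119 := by decide +kernel

/-- matching of the positive roots of `F4` -/
def LF4 : List ℕ := [22, 18, 21, 15, 14, 10, 12, 19, 17, 16, 4, 7, 13, 2, 11, 3, 9, 5, 8, 6, 24, 1, 0, 24]

/-- its inverse -/
def LF4' : List ℕ := [22, 21, 13, 15, 10, 17, 19, 11, 18, 16, 5, 14, 6, 12, 4, 3, 9, 8, 1, 7, 24, 2, 0, 24]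

theorem certF4 : certOK chevF4 24 LF4 LF4' = true := by decide +kernel

theorem lenF4 : ((List.range 24).filter fun i => Nat.blt (LF4.getD i 24) 24).length = 22 := by decide +kernel

end Cfsg.Agent.H332.Ab.Filt
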